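import Groth.Agent.Sga4h.H940.Sh
import Groth.Agent.Sga4h.H919.Fam

/-!
# The additive system of Artin–Schreier sheaves
-/

set_option autoImplicit false

universe u

open CategoryTheory CategoryTheory.Limits AlgebraicGeometry Opposite

namespace Groth.Agent.Sga4h.H940.ASysOf

open Groth.Agent.Sga4h.H919.Fam

variable {Λ : Type (u + 1)} [CommRing Λ] {k : Type u} [Field k] [Fintype k]

/-- The additive system `f ↦ F_θ(f, 1)`. -/
noncomputable def asys (θ : Multiplicative k →* Λˣ) : ASys k Λ where
  sh := Sh.sh θ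
  inv _ _ := Sh.isInvertible_F _ _ _ _ _
  pull := Sh.pull θ
  add := Sh.add θ
  triv := Sh.triv θ

end Groth.Agent.Sga4h.H940.ASysOf
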