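import Groth.Agent.Sga4h.H940.Sh
import Groth.Agent.Sga4h.H582.ASCov

/-!
# Sections of Artin–Schreier sheaves

* `exists_smul`: over a connected étale scheme every section is a multiple of a free generator;
* `eq_zero_of_gen`: a sheaf with a free generator `s` over a connected covering `W` with `τ^* s = r s`, `r ≠ 1`, has no
  nonzero global section;
* `nonempty_tors`: the Artin–Schreier covering `W` of `Spec R` and the generator of `sh θ ρ f` on it;
* `no_section`: `sh θ ρ (a X + c)` on the affine line over a field, `a ≠ 0`, `θ ≠ 1`, has no nonzero global section.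
-/

set_option autoImplicit false

universe u

open CategoryTheory CategoryTheory.Limits AlgebraicGeometry Opposite Polynomial

namespace Groth.Agent.Sga4h.H940.NoSec

open Groth.Agent.Etbase Groth.Agent.Etcore Groth.Agent.EtpbcA Groth.Agent.Etcore.LVan
open Groth.Agent.Sga4h.H918.Gen Groth.Agent.Sga4h.H918.Tw Groth.Agent.Sga4h.H918.Ask
open Groth.Agent.Sga4h.H918.Tens Groth.Agent.Sga4h.H582.ASCov
open Groth.Agent.Sga4h.H940.Sh

variable {Λ : Type (u + 1)} [CommRing Λ]

section Gen

variable {X : Scheme.{u}} {L : EtModW.Mod Λ X} {T : X.Etale} {s : EtModW.sect Λ L T} (hs : IsGen L s)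

/-- The value of a section is locally constant. -/
theorem isLocallyConstant_val {V : X.Etale} (g : V ⟶ T) (t : EtModW.sect Λ L V) :
    IsLocallyConstant (fun v : V.left => val hs g v t) := by
  rw [IsLocallyConstant.iff_exists_open]
  intro v
  exact ⟨{x | Van L (val hs g v t • res L g s - t) x}, isOpen_van _, val_spec hs g v t,
    fun x hx => val_unique hs g x t (val_spec hs g x t) hx⟩

include hs in
/-- Over a connected étale scheme every section is a multiple of a free generator. -/
theorem exists_smul {V : X.Etale} [ConnectedSpace V.left] (g : V ⟶ T) (t : EtModW.sect Λ L V) :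
    ∃ r : Λ, t = r • res L g s := by
  obtain ⟨v₀⟩ : Nonempty V.left := inferInstance
  refine ⟨val hs g v₀ t, sect_ext L fun x => ?_⟩
  have h := (isLocallyConstant_val hs g t).apply_eq_of_preconnectedSpace x v₀
  have h1 := val_spec hs g x t
  simp only [h] at h1
  exact h1.symm

include hs in
theorem smul_injective {V : X.Etale} (g : V ⟶ T) (v : V.left) {r r' : Λ}
    (h : r • res L g s = r' • res L g s) : r = r' := by
  have h1 := congrArg (val hs g v) h
  simpa [map_smul, val_gen] using h1

include hs in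
/-- A sheaf with a free generator `s` over a connected covering `W` with `τ^* s = r s`, `r ≠ 1`, has no nonzero
global section. -/
theorem eq_zero_of_gen [IsDomain Λ] [ConnectedSpace T.left] (τ : T ⟶ T) {r : Λ} (hr : r ≠ 1) (hτ : res L τ s = r • s) {U : X.Etale}
    (p : T ⟶ U) (hp : ∀ x : U.left, ∃ t : T.left, p.left t = x)
    (hpτ : τ ≫ p = p) (t : EtModW.sect Λ L U) : t = 0 := by
  obtain ⟨c, hc⟩ := exists_smul hs (𝟙 T) (res L p t)
  rw [res_id] at hc
  have h1 : res L τ (res L p t) = res L p t := by rw [← res_comp, hpτ]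
  rw [hc, map_smul, hτ, smul_smul] at h1
  obtain ⟨v₀⟩ : Nonempty T.left := inferInstance
  have h2 := smul_injective hs (𝟙 T) v₀ (r := c * r) (r' := c) (by rw [res_id, h1])
  have h3 : c = 0 := by
    by_contra hc0
    exact hr (mul_left_cancel₀ hc0 (h2.trans (mul_one c).symm))
  refine sect_ext' L fun x => ?_
  obtain ⟨y, hy⟩ := hp x
  exact ⟨T, p, y, hy, by rw [hc, h3, zero_smul, map_zero]⟩

end Gen

section Cov

variable {k : Type u} [Field k] [Fintype k] {R : Type u} [CommRing R] (ρ : k →+* R) (f : R)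

theorem two_le (k : Type u) [Field k] [Fintype k] : 2 ≤ Fintype.card k := Fintype.one_lt_card

/-- The Artin–Schreier covering of `Spec R`, as an étale scheme over `Spec R`. -/
noncomputable def W : (Spec (CommRingCat.of R)).Etale :=
  haveI : Etale (cov (Fintype.card k) f) := etale_cov _ f (two_le k) (cast_card_eq_zero ρ)
  Scheme.Etale.mk (cov (Fintype.card k) f)

/-- The root. -/
noncomputable def zz : Γ((W ρ f).left, ⊤) :=
  gs (LangSh.ASAlg R (Fintype.card k) f) (AdjoinRoot.root _)

theorem fb_gs (x : R) : fb (W ρ f) (gs R x) =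
    gs (LangSh.ASAlg R (Fintype.card k) f) (algebraMap R (LangSh.ASAlg R (Fintype.card k) f) x) :=
  appTop_gs (algebraMap R (LangSh.ASAlg R (Fintype.card k) f)) x

theorem zz_eq : zz ρ f ^ Fintype.card k - zz ρ f = fb (W ρ f) (gs R f) := by
  rw [fb_gs, ← root_eq, map_sub, map_pow]
  rfl

/-- The automorphism `z ↦ z + c`. -/
noncomputable def shiftHom (c : k) : LangSh.ASAlg R (Fintype.card k) f →+* LangSh.ASAlg R (Fintype.card k) f :=
  lift (Fintype.card k) f (algebraMap R (LangSh.ASAlg R (Fintype.card k) f))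
    (AdjoinRoot.root _ + algebraMap R (LangSh.ASAlg R (Fintype.card k) f) (ρ c)) (by
      rw [H918.FrobFix.add_pow_card ((algebraMap R (LangSh.ASAlg R (Fintype.card k) f)).comp ρ), ← map_pow, ← map_pow,
        FiniteField.pow_card, add_sub_add_right_eq_sub, root_eq])

/-- The automorphism `z ↦ z + c` of the covering. -/
noncomputable def shift (c : k) : W ρ f ⟶ W ρ f :=
  MorphismProperty.Over.homMk (A := W ρ f) (B := W ρ f) (Spec.map (CommRingCat.ofHom (shiftHom ρ f c))) (by
    change Spec.map (CommRingCat.ofHom (shiftHom ρ f c)) ≫ cov (Fintype.card k) f = cov (Fintype.card k) f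
    rw [cov, LangSh.cover, ← Spec.map_comp, ← CommRingCat.ofHom_comp]
    congr 2
    exact lift_comp _ _ _ _ _)

theorem pb_shift (c : k) : pb (shift ρ f c) (zz ρ f) = zz ρ f + Tor.cst ((gs R).comp ρ) (W ρ f) c := by
  have h1 : pb (shift ρ f c) (zz ρ f) = gs (LangSh.ASAlg R (Fintype.card k) f)
      (shiftHom ρ f c (AdjoinRoot.root _)) := appTop_gs (shiftHom ρ f c) _
  have h2 : Tor.cst ((gs R).comp ρ) (W ρ f) c = fb (W ρ f) (gs R (ρ c)) := rfl
  rw [h1, shiftHom, lift_root, map_add, h2, fb_gs]
  rfl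

/-- The sheaf `sh θ ρ f` has a generator over `W` on which `z ↦ z + c` acts by `θ c`. -/
theorem exists_gen (θ : Multiplicative k →* Λˣ) :
    HasGen (sh θ ρ f) (W ρ f) (fun c : k => shift ρ f c) (fun c => ((θ (Multiplicative.ofAdd c) : Λˣ) : Λ)) := by
  obtain ⟨T⟩ := H918.Lang.exists_tor ((gs R).comp ρ) (gs R f) 1 isUnit_one
  obtain ⟨π, h1, h2⟩ := T.exists_hom (W ρ f) (zz ρ f) 1 (zz_eq ρ f) (by rw [one_pow, map_one])
  have key : ∀ c : k, shift ρ f c ≫ π = π ≫ T.act (Multiplicative.ofAdd c, 1) := by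
    intro c
    have e1 : pb (shift ρ f c ≫ π) T.z = zz ρ f + Tor.cst ((gs R).comp ρ) (W ρ f) c := by
      rw [pb_comp, h1, pb_shift]
    have e2 : pb (π ≫ T.act (Multiplicative.ofAdd c, 1)) T.z =
        zz ρ f + Tor.cst ((gs R).comp ρ) (W ρ f) c := by
      rw [pb_comp, T.act_z, map_add, h1, Tor.pb_cst, toAdd_ofAdd]
    have e3 : pb (shift ρ f c ≫ π) T.y = 1 := by
      rw [pb_comp, h2, map_one]
    have e4 : pb (π ≫ T.act (Multiplicative.ofAdd c, 1)) T.y = 1 := by
      rw [pb_comp, T.act_y, map_mul, h2, Tor.pb_cst, Units.val_one, map_one, mul_one]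
    exact T.hom_ext (e1.trans e2.symm) (e3.trans e4.symm)
  exact (H918.Lang.hasGen_F T (ext θ)).res π (fun c => (Multiplicative.ofAdd c, 1)) key

end Cov

section Line

variable {k : Type u} [Field k] [Fintype k] {K : Type u} [Field K]

/-- `sh θ ρ (a X + c)`, `a ≠ 0`, `θ ≠ 1`, has no nonzero global section. -/
theorem no_section [IsDomain Λ] (θ : Multiplicative k →* Λˣ) (hθ : θ ≠ 1) (ρ : k →+* K[X]) (a c : K) (ha : a ≠ 0)
    (t : EtModW.sect Λ (sh θ ρ (lin a c)) (EtCoh.top _)) : t = 0 := by
  obtain ⟨d, hd⟩ : ∃ d : k, θ (Multiplicative.ofAdd d) ≠ 1 := by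
    by_contra h
    push Not at h
    exact hθ (MonoidHom.ext fun x => h (Multiplicative.toAdd x))
  obtain ⟨s, hs, hs2⟩ := exists_gen ρ (lin a c) θ
  have h1 : ConnectedSpace (W ρ (lin a c)).left := connectedSpace_line (Fintype.card k) c ha
  have h2 := surjective_cov (Fintype.card k) (lin a c) (two_le k)
  have h3 : ∀ x, ∃ y : (W ρ (lin a c)).left, (W ρ (lin a c)).hom y = x := h2.surj
  refine eq_zero_of_gen hs (shift ρ (lin a c) d) (r := ((θ (Multiplicative.ofAdd d) : Λˣ) : Λ))
    (fun h => hd (Units.ext h)) (hs2 d) (Groth.Agent.Sga5.H835.InvRes.toTop _) h3 ?_ t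
  exact MorphismProperty.Over.Hom.ext (MorphismProperty.Over.w (shift ρ (lin a c) d))

end Line

end Groth.Agent.Sga4h.H940.NoSec
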