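import Groth.Agent.Sga4h.H918.Lang

/-!
# The additive system of Artin–Schreier sheaves

* `isInvertible_of_isGen`: a sheaf with a free generator over an étale covering is invertible;
* `sh θ ρ f`: the sheaf `F_θ(f, 1)` on `Spec R`, `θ : Multiplicative k →* Λˣ`; `pull`, `add`, `triv`.
-/

set_option autoImplicit false

universe u

open CategoryTheory CategoryTheory.Limits AlgebraicGeometry Opposite

namespace Groth.Agent.Sga4h.H940.Sh

open Groth.Agent.Etbase Groth.Agent.Etcore Groth.Agent.EtpbcA Groth.Agent.Etcore.LVan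
open Groth.Agent.Sga4h.H918.Gen Groth.Agent.Sga4h.H918.Tw Groth.Agent.Sga4h.H918.Ask
open Groth.Agent.Sga4h.H918.Tens (tens)

variable {Λ : Type (u + 1)} [CommRing Λ]

/-- A sheaf with a free generator over an étale covering is invertible. -/
theorem isInvertible_of_isGen {X : Scheme.{u}} {L : EtModW.Mod Λ X} {T : X.Etale}
    (hT : ∀ x : X, ∃ t : T.left, T.hom t = x) {s : EtModW.sect Λ L T} (hs : IsGen L s) :
    SGA5.IsInvertible L := by
  rw [Groth.Agent.Sga5.H835.InvRes.isInvertible_iff]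
  intro x
  obtain ⟨y, hy⟩ := hT x
  exact ⟨T.left, T.hom, T.prop, y, hy, Groth.Agent.Sga5.H835.InvRes.nonempty_res_iso _ hs⟩

variable {k : Type u} [Field k] [Fintype k]

/-- `F_θ(f, u)` is invertible. -/
theorem isInvertible_F {X : Scheme.{u}} (ρ : k →+* Γ(X, ⊤)) (θ : GG k →* Λˣ) (f u : Γ(X, ⊤)) (hu : IsUnit u) :
    SGA5.IsInvertible (H918.Lang.F ρ θ f u hu) := by
  obtain ⟨s, hs, -⟩ := H918.Lang.hasGen_F (H918.Lang.tor ρ f u hu) θ
  exact isInvertible_of_isGen (H918.Lang.tor ρ f u hu).surj hs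

/-- Functions on `Spec R`. -/
noncomputable abbrev gs (R : Type u) [CommRing R] : R →+* Γ(Spec (CommRingCat.of R), ⊤) :=
  (Scheme.ΓSpecIso (CommRingCat.of R)).inv.hom

theorem appTop_gs {R R' : Type u} [CommRing R] [CommRing R'] (φ : R →+* R') (f : R) :
    (Spec.map (CommRingCat.ofHom φ)).appTop.hom (gs R f) = gs R' (φ f) := by
  have h := Scheme.ΓSpecIso_inv_naturality (CommRingCat.ofHom φ)
  exact (congrArg (fun q => q.hom f) h).symm

/-- The character of `k × kˣ` trivial on `kˣ`. -/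
noncomputable abbrev ext (θ : Multiplicative k →* Λˣ) : GG k →* Λˣ := θ.comp (MonoidHom.fst _ _)

/-- The sheaf `F_θ(f, 1)` on `Spec R`. -/
noncomputable def sh (θ : Multiplicative k →* Λˣ) {R : Type u} [CommRing R] (ρ : k →+* R) (f : R) :
    EtModW.Mod Λ (Spec (CommRingCat.of R)) :=
  H918.Lang.F ((gs R).comp ρ) (ext θ) (gs R f) 1 isUnit_one

theorem F_congr {X : Scheme.{u}} {ρ ρ' : k →+* Γ(X, ⊤)} (hρ : ρ = ρ') (θ : GG k →* Λˣ) {f f' v v' : Γ(X, ⊤)}
    (hf : f = f') (hv : v = v') (hu : IsUnit v) (hu' : IsUnit v') :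
    Nonempty (H918.Lang.F ρ θ f v hu ≅ H918.Lang.F ρ' θ f' v' hu') := by
  subst hρ hf hv
  exact ⟨Iso.refl _⟩

theorem pull (θ : Multiplicative k →* Λˣ) {R R' : Type u} [CommRing R] [CommRing R'] (ρ : k →+* R) (f : R)
    (φ : R →+* R') :
    Nonempty ((EtModW.pull Λ (Spec.map (CommRingCat.ofHom φ))).obj (sh θ ρ f) ≅ sh θ (φ.comp ρ) (φ f)) := by
  obtain ⟨e⟩ := H918.Lang.pullF (Spec.map (CommRingCat.ofHom φ)) (ρ := (gs R).comp ρ) (f := gs R f) (u := 1)
    (ext θ) isUnit_one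
  obtain ⟨e'⟩ := F_congr (ρ := (Spec.map (CommRingCat.ofHom φ)).appTop.hom.comp ((gs R).comp ρ))
    (ρ' := (gs R').comp (φ.comp ρ)) (RingHom.ext fun x => appTop_gs φ (ρ x)) (ext θ)
    (appTop_gs φ f) (map_one (Spec.map (CommRingCat.ofHom φ)).appTop.hom) (isUnit_one.map _) isUnit_one
  exact ⟨e ≪≫ e'⟩

theorem add (θ : Multiplicative k →* Λˣ) {R : Type u} [CommRing R] (ρ : k →+* R) (f g : R) :
    Nonempty (sh θ ρ (f + g) ≅ ((EtModD.tensorBi Λ _).obj (sh θ ρ f)).obj (sh θ ρ g)) := by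
  obtain ⟨e⟩ := H918.Lang.mulF (f := gs R f) (f' := gs R g) (u := 1) (u' := 1) ((gs R).comp ρ) (ext θ)
    isUnit_one isUnit_one
  obtain ⟨e'⟩ := F_congr (ρ := (gs R).comp ρ) rfl (ext θ) (map_add (gs R) f g) (one_mul 1).symm isUnit_one
    (isUnit_one.mul isUnit_one)
  exact ⟨e' ≪≫ e⟩

theorem triv (θ : Multiplicative k →* Λˣ) {R : Type u} [CommRing R] (ρ : k →+* R) (z : R) :
    Nonempty (sh θ ρ (z ^ Fintype.card k - z) ≅ EtModW.constMod Λ _ Λ) :=
  H918.Lang.trivF (ext θ) (gs R z) 1 (by rw [← map_pow, ← map_sub]) (one_pow _) isUnit_one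

end Groth.Agent.Sga4h.H940.Sh
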